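import Cfsg.Agent.Lib.MonsterFive.Defs

/-!
Candidates for a permutation centralizing the group of order five.
-/

set_option autoImplicit false

namespace Cfsg.Lib.MonsterFive

open Cfsg Cfsg.Lib.Concrete

/-- One point in each of the eight orbits. -/
def orbRep (j : ℕ) : ℕ := (fixPts ++ cycReps).getD j 0

/-- The value at `i` of the map with given images of the orbit representatives. -/
def candVal (im : List ℕ) (i : ℕ) : ℕ := pget (sPow (pget orbK i)) (im.getD (pget orbJ i) 0)

/-- The partial test on the octad through the `j`th orbit of length five, represented at `x`. -/
def octOk (a b c d x j : ℕ) : Bool :=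
  isCode (orMask bits24 (fun i => (cycOctads.getD j 0).testBit i) (candVal [a, b, c, d, x, x, x, x]))

/-- The leaf test. -/
def candLeaf (im : List ℕ) : Bool :=
  !(basisMasks.all fun b => isCode (orMask bits24 (fun i => b.testBit i) (candVal im))) ||
    centPerms.any fun p => bits24.all fun i => pget p.1 i == candVal im i

/-- All candidates with given images of three fixed points. -/
def candAll (a b c : ℕ) : Bool :=
  a == b || a == c || b == c || fixPts.all fun d => d == a || d == b || d == c ||
    movPts.all fun x => !octOk a b c d x 0 || movPts.all fun y => !octOk a b c d y 1 ||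
      movPts.all fun v => !octOk a b c d v 2 || movPts.all fun w => !octOk a b c d w 3 ||
        candLeaf [a, b, c, d, x, y, v, w]

end Cfsg.Lib.MonsterFive
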