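import Cfsg.Agent.Lib.MonsterFive.Defs

/-!
Numeric facts about the fixed classes and the action of their stabilizers.
-/

set_option autoImplicit false
set_option maxRecDepth 100000
set_option maxHeartbeats 4000000

namespace Cfsg.Lib.MonsterFive

open Cfsg Cfsg.Lib.Concrete

theorem class_check : (List.range 256).all (fun c => c == 0 ||
    (eqMod2 (combV c) (repV c) && inLeech (repV c) && decide (sqNorm (repV c) = repN.getD c 0) &&
      [(32 : ℤ), 48, 64].contains (repN.getD c 0) &&
      ((repN.getD c 0 == 64) == sixtyFour.contains c))) = true := by
  decide +kernel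

theorem basFix_check : ∀ i : Fin 8, ∀ p : GolayPt, basV i (sigma.symm p) = basV i p := by
  decide +kernel

theorem trace_check : (List.range 37).all (fun j =>
    decide (traceCodes.getD j 0 < 256) &&
      eqMod2 (traceV (gensList.getD j oddBase)) (combV (traceCodes.getD j 0))) = true ∧
    gensList.length = 37 := by
  decide +kernel

theorem codes_check : codeList.all (fun m =>
    !(bits24.all fun i => m.testBit (pget (sPow 1) i) == m.testBit i) ||
      fixCodes.any fun e => e.1 == m) = true := by
  decide +kernel

theorem permAct_check : centPerms.all (fun e => (List.range 8).all fun i =>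
    eqMod2 (monoV e.2.1 0 (combV (1 <<< i))) (combV (aget e.2.2.1 i))) = true := by
  decide +kernel

theorem signAct_check : fixCodes.all (fun e => decide (e.1 < 16777216) && (List.range 8).all fun i =>
    eqMod2 (monoV pId e.1 (combV (1 <<< i))) (combV (aget e.2.1 i))) = true := by
  decide +kernel

theorem moves_check : centPerms.all (fun e => moves e.2.2.1 e.2.2.2) = true ∧
    fixCodes.all (fun e => moves e.2.1 e.2.2) = true ∧ moves uAct.1 uAct.2 = true ∧ moves mAct.1 mAct.2 = true := by
  decide +kernel

theorem u_ok : matOk uMat = true := by decide +kernel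

theorem u_comm : ∀ i j : Fin 24, matEntry uMat (gidx (sigma (gpt i))) (gidx (sigma (gpt j))) = matEntry uMat i j := by
  decide +kernel

theorem m_comm : ∀ p : GolayPt, mSigma (sigma p) = sigma (mSigma p) := by
  decide +kernel

theorem gen_check : (List.range 8).all (fun i => eqMod2 (matFun uMat (combV (1 <<< i))) (combV (aget uAct.1 i))) = true ∧
    (List.range 8).all (fun i => eqMod2 (signedPerm mSigma ∅ (combV (1 <<< i))) (combV (aget mAct.1 i))) = true := by
  decide +kernel

end Cfsg.Lib.MonsterFive
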