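import Cfsg.Agent.Lib.MonsterFive.CandDefs

/-!
The centralizer of the group of order five in the Mathieu group, by enumeration.
-/

set_option autoImplicit false
set_option maxRecDepth 100000
set_option maxHeartbeats 4000000

namespace Cfsg.Lib.MonsterFive

open Cfsg Cfsg.Lib.Concrete

theorem cand_check : fixPts.all (fun a => fixPts.all fun b => fixPts.all fun c => candAll a b c) = true := by
  decide +kernel

theorem orb_check : bits24.all (fun i => decide (pget orbJ i < 8) && decide (pget orbK i < 5) &&
    (pget (sPow (pget orbK i)) (orbRep (pget orbJ i)) == i) &&
    ((decide (pget orbJ i < 4)) == fixPts.contains i) && (fixPts.contains i != movPts.contains i)) = true := by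
  decide +kernel

theorem oct_check : [0, 1, 2, 3].all (fun j => isCode (cycOctads.getD j 0) &&
    decide (cycOctads.getD j 0 < 16777216) && bits24.all fun i =>
      !(cycOctads.getD j 0).testBit i || decide (pget orbJ i < 4) || pget orbJ i == 4 + j) = true := by
  decide +kernel

theorem pow_check : sigPows.length = 5 ∧ sPow 0 = pId ∧
    ((List.range 4).all fun k => prodCheck (sPow 1) (sPow k) (sPow (k + 1))) = true ∧
    prodCheck (sPow 1) (sPow 4) pId = true := by
  decide +kernel

theorem perm_check : centPerms.all (fun p => bits24.all fun i =>
    decide (pget p.1 i < 24) && decide (pget p.2.1 i < 24) && (pget p.1 (pget p.2.1 i) == i)) = true := by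
  decide +kernel

end Cfsg.Lib.MonsterFive
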