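import Cfsg.Agent.Lib.Concrete.LeechMatrix
import Cfsg.Agent.Lib.Concrete.LeechCrossCore
import Cfsg.Agent.Lib.Concrete.LeechMod2
import Cfsg.Agent.Lib.MonsterLocal.ModTwo
import Cfsg.Agent.Lib.MonsterFive.Data

/-!
The permutation of order five, eight spanning vectors of its fixed classes, ten subspaces among them, and the
wreath product acting on these.
-/

set_option autoImplicit false

namespace Cfsg.Lib.MonsterFive

open Cfsg Cfsg.Lib.Concrete Cfsg.Lib.MonsterLocal

/-- A listed permutation of the points. -/
def listFun (l : List ℕ) (p : GolayPt) : GolayPt := gpt (Fin.ofNat 24 (l.getD (gidx p).val 0))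

/-- The permutation of order five. -/
def sigma : Equiv.Perm GolayPt where
  toFun := listFun sigL
  invFun := listFun sigInvL
  left_inv := by decide +kernel
  right_inv := by decide +kernel

/-- The centralizing permutation. -/
def mSigma : Equiv.Perm GolayPt where
  toFun := listFun mPerm.1
  invFun := listFun mPerm.2
  left_inv := by decide +kernel
  right_inv := by decide +kernel

/-- The packed powers. -/
def sPow (k : ℕ) : ℕ := sigPows.getD k 0

theorem rep_sigma : Concrete.Rep sigma (sPow 1) := by unfold Concrete.Rep; decide +kernel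

theorem sigma_mem : sigma ∈ M24 := rep_mem_M24 rep_sigma (by decide +kernel)

/-- The packed centralizing permutation. -/
def mPack : ℕ := (List.range 24).foldr (fun i acc => (mPerm.1.getD i 0) <<< (5 * i) + acc) 0

theorem mSigma_mem : mSigma ∈ M24 :=
  rep_mem_M24 (p := mPack) (by unfold Concrete.Rep; decide +kernel) (by decide +kernel)

/-- The automorphism of order five. -/
noncomputable def f0 : Co0 := permHom ⟨sigma, sigma_mem⟩

/-- A packed vector. -/
def vecP (n : ℕ) (p : GolayPt) : ℤ := (pget n (gidx p).val : ℤ) - 16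

/-- The spanning vectors. -/
def basV (i : Fin 8) : GolayPt → ℤ := vecP (basL.getD i.val 0)

theorem basV_mem : ∀ i : Fin 8, inLeech (basV i) = true := by decide +kernel

/-- The spanning vectors, in the lattice. -/
def bas (i : Fin 8) : leechLattice := ⟨basV i, mem_leech_of_inLeech (basV_mem i)⟩

/-- The sum selected by the bits of `c`. -/
def combV (c : ℕ) (p : GolayPt) : ℤ :=
  (bif c.testBit 0 then basV 0 p else 0)
  + (bif c.testBit 1 then basV 1 p else 0) + (bif c.testBit 2 then basV 2 p else 0)
  + (bif c.testBit 3 then basV 3 p else 0) + (bif c.testBit 4 then basV 4 p else 0)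
  + (bif c.testBit 5 then basV 5 p else 0) + (bif c.testBit 6 then basV 6 p else 0)
  + (bif c.testBit 7 then basV 7 p else 0)

/-- A short vector in a class. -/
def repV (c : ℕ) : GolayPt → ℤ := vecP (repL.getD c 0)

/-- Congruence modulo twice the lattice. -/
def eqMod2 (x y : GolayPt → ℤ) : Bool :=
  bits24.all (fun i => (y (gpt (Fin.ofNat 24 i)) - x (gpt (Fin.ofNat 24 i))) % 2 == 0) &&
    inLeech (fun p => (y p - x p) / 2)

theorem eqMod2_spec {x y : GolayPt → ℤ} (h : eqMod2 x y = true) :
    ∃ w ∈ leechLattice, y - x = 2 • w := by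
  simp only [eqMod2, Bool.and_eq_true, List.all_eq_true, beq_iff_eq] at h
  refine ⟨_, mem_leech_of_inLeech h.2, funext fun p => ?_⟩
  have e := h.1 _ (mem_bits24.2 (gidx p).isLt)
  rw [show gpt (Fin.ofNat 24 (gidx p).val) = p by
    simp [Fin.ofNat, Nat.mod_eq_of_lt (gidx p).isLt, gpt_gidx]] at e
  simp only [Pi.sub_apply, Pi.smul_apply, nsmul_eq_mul]
  push_cast
  omega

theorem cls_eq_of_eqMod2 {x y : leechLattice} (h : eqMod2 (x : GolayPt → ℤ) (y : GolayPt → ℤ) = true) :
    cls x = cls y := mk_eq_iff.2 (eqMod2_spec h)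

/-- The image of the `i`th spanning class in a packed action. -/
def aget (L i : ℕ) : ℕ := Nat.land (Nat.shiftRight L (Nat.mul 8 i)) 255

/-- A packed action, extended linearly. -/
def lmap (L c : ℕ) : ℕ :=
  (bif c.testBit 0 then aget L 0 else 0) ^^^ (bif c.testBit 1 then aget L 1 else 0)
  ^^^ (bif c.testBit 2 then aget L 2 else 0) ^^^ (bif c.testBit 3 then aget L 3 else 0)
  ^^^ (bif c.testBit 4 then aget L 4 else 0) ^^^ (bif c.testBit 5 then aget L 5 else 0)
  ^^^ (bif c.testBit 6 then aget L 6 else 0) ^^^ (bif c.testBit 7 then aget L 7 else 0)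

/-- The signed image of a vector under a packed permutation given by its inverse. -/
def monoV (q m : ℕ) (x : GolayPt → ℤ) (p : GolayPt) : ℤ :=
  bif m.testBit (gidx p).val then -x (gpt (Fin.ofNat 24 (pget q (gidx p).val)))
  else x (gpt (Fin.ofNat 24 (pget q (gidx p).val)))

/-- The trace of a vector. -/
def traceV (x : GolayPt → ℤ) (p : GolayPt) : ℤ :=
  ((List.range 5).map fun k => x (gpt (Fin.ofNat 24 (pget (sPow k) (gidx p).val)))).sum

/-- The generators, as a list. -/
def gensList : List (GolayPt → ℤ) :=
  oddBase :: (basisMasks.map twoWord ++ bits24.map fun i => fourPair (gpt (Fin.ofNat 24 i)))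

/-- The ten places. -/
abbrev Pl : Type := Fin 5 ⊕ Fin 5

/-- The number of a place. -/
def plIdx : Pl → ℕ
  | .inl i => i.val
  | .inr i => 5 + i.val

/-- A listed even permutation of five points. -/
def evFun (l : List (List ℕ)) (k : Fin 60) (x : Fin 5) : Fin 5 := Fin.ofNat 5 ((l.getD k.val []).getD x.val 0)

theorem ev_check : ∀ (k : Fin 60) (x : Fin 5),
    evFun evenInvL k (evFun evenL k x) = x ∧ evFun evenL k (evFun evenInvL k x) = x := by
  decide +kernel

/-- The `k`th even permutation. -/
def evP (k : Fin 60) : Equiv.Perm (Fin 5) where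
  toFun := evFun evenL k
  invFun := evFun evenInvL k
  left_inv := fun x => (ev_check k x).1
  right_inv := fun x => (ev_check k x).2

/-- A coded element of the wreath product. -/
def wEl (n : ℕ) : Equiv.Perm Pl :=
  (bif n.testBit 0 then Equiv.sumComm (Fin 5) (Fin 5) else 1) *
    Equiv.Perm.sumCongr (evP (Fin.ofNat 60 (n / 2 % 64))) (evP (Fin.ofNat 60 (n / 128)))

/-- An action carries the subspaces as coded. -/
def moves (L n : ℕ) : Bool :=
  [Sum.inl (0 : Fin 5), .inl 1, .inl 2, .inl 3, .inl 4, .inr 0, .inr 1, .inr 2, .inr 3, .inr 4].all fun i =>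
    (tenL.getD (plIdx i) []).all fun c => (tenL.getD (plIdx (wEl n i)) []).contains (lmap L c)

end Cfsg.Lib.MonsterFive
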