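import Cfsg.Agent.Lib.MonsterFive.Defs
import Cfsg.Prelude.Def_MonsterType

/-!
The wreath product of the alternating group of degree five by a group of order two.
-/

set_option autoImplicit false
set_option maxRecDepth 100000

namespace Cfsg.Lib.MonsterFive

open Cfsg

theorem evP_sign : ∀ k : Fin 60, Equiv.Perm.sign (evP k) = 1 := by decide +kernel

theorem evP_injective : ∀ k l : Fin 60, (∀ x, evP k x = evP l x) → k = l := by decide +kernel

theorem evP_surjective (σ : alternatingGroup (Fin 5)) : ∃ k, evP k = σ.1 := by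
  have hbij : Function.Bijective fun k : Fin 60 => (⟨evP k, evP_sign k⟩ : alternatingGroup (Fin 5)) := by
    refine (Fintype.bijective_iff_injective_and_card _).2 ⟨fun k l h => evP_injective k l fun x =>
      Equiv.ext_iff.1 (congrArg Subtype.val h) x, ?_⟩
    have h : 2 * Fintype.card (alternatingGroup (Fin 5)) = Nat.factorial 5 := by
      rw [two_mul_card_alternatingGroup, Fintype.card_perm, Fintype.card_fin]
    rw [show Nat.factorial 5 = 120 from rfl] at h
    rw [Fintype.card_fin]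
    omega
  obtain ⟨k, hk⟩ := hbij.2 σ
  exact ⟨k, congrArg Subtype.val hk⟩

theorem base_mem (σ τ : alternatingGroup (Fin 5)) :
    Equiv.Perm.sumCongr (σ : Equiv.Perm (Fin 5)) (τ : Equiv.Perm (Fin 5)) ∈ alternatingFiveWreathTwo :=
  Subgroup.subset_closure (Or.inl ⟨σ, τ, rfl⟩)

theorem swap_mem : Equiv.sumComm (Fin 5) (Fin 5) ∈ alternatingFiveWreathTwo :=
  Subgroup.subset_closure (Or.inr rfl)

theorem wEl_mem (n : ℕ) : wEl n ∈ alternatingFiveWreathTwo := by
  refine mul_mem ?_ (base_mem ⟨_, evP_sign _⟩ ⟨_, evP_sign _⟩)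
  cases n.testBit 0
  · exact one_mem _
  · exact swap_mem

/-- The base group. -/
def baseHom : alternatingGroup (Fin 5) × alternatingGroup (Fin 5) →* alternatingFiveWreathTwo :=
  MonoidHom.codRestrict ((Equiv.Perm.sumCongrHom (Fin 5) (Fin 5)).comp
    ((alternatingGroup (Fin 5)).subtype.prodMap (alternatingGroup (Fin 5)).subtype)) _ fun p => base_mem p.1 p.2

theorem baseHom_injective : Function.Injective baseHom := by
  intro p q h
  have h' : Equiv.Perm.sumCongrHom (Fin 5) (Fin 5) ((p.1 : Equiv.Perm (Fin 5)), (p.2 : Equiv.Perm (Fin 5))) =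
      Equiv.Perm.sumCongrHom (Fin 5) (Fin 5) ((q.1 : Equiv.Perm (Fin 5)), (q.2 : Equiv.Perm (Fin 5))) :=
    congrArg Subtype.val h
  have h2 := Equiv.Perm.sumCongrHom_injective h'
  exact Prod.ext (Subtype.ext (Prod.ext_iff.1 h2).1) (Subtype.ext (Prod.ext_iff.1 h2).2)

theorem swap_conj (σ τ : Equiv.Perm (Fin 5)) :
    Equiv.sumComm (Fin 5) (Fin 5) * Equiv.Perm.sumCongr σ τ =
      Equiv.Perm.sumCongr τ σ * Equiv.sumComm (Fin 5) (Fin 5) := by
  ext (i | i) <;> rfl

/-- The elements are base elements or base elements times the exchange. -/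
theorem wreath_cases (w : alternatingFiveWreathTwo) :
    ∃ p, w = baseHom p ∨ w = baseHom p * ⟨_, swap_mem⟩ := by
  obtain ⟨w, hw⟩ := w
  have key : ∃ σ τ : alternatingGroup (Fin 5), w = Equiv.Perm.sumCongr σ.1 τ.1 ∨
      w = Equiv.Perm.sumCongr σ.1 τ.1 * Equiv.sumComm (Fin 5) (Fin 5) := by
    have hinv : ∀ σ τ : Equiv.Perm (Fin 5), (Equiv.Perm.sumCongr σ τ)⁻¹ = Equiv.Perm.sumCongr σ⁻¹ τ⁻¹ :=
      fun σ τ => Equiv.Perm.sumCongr_inv σ τ
    have hsw : (Equiv.sumComm (Fin 5) (Fin 5) : Equiv.Perm Pl) * Equiv.sumComm (Fin 5) (Fin 5) = 1 := by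
      ext (i | i) <;> rfl
    induction hw using Subgroup.closure_induction with
    | mem x hx =>
      rcases hx with ⟨σ, τ, rfl⟩ | rfl
      · exact ⟨σ, τ, Or.inl rfl⟩
      · exact ⟨1, 1, Or.inr (by simp)⟩
    | one => exact ⟨1, 1, Or.inl (by simp)⟩
    | mul x y _ _ hx hy =>
      obtain ⟨σ, τ, rfl | rfl⟩ := hx <;> obtain ⟨σ', τ', rfl | rfl⟩ := hy
      · exact ⟨σ * σ', τ * τ', Or.inl (Equiv.Perm.sumCongr_mul _ _ _ _)⟩
      · exact ⟨σ * σ', τ * τ', Or.inr (by rw [← mul_assoc, Equiv.Perm.sumCongr_mul]; rfl)⟩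
      · exact ⟨σ * τ', τ * σ', Or.inr (by rw [mul_assoc, swap_conj, ← mul_assoc, Equiv.Perm.sumCongr_mul]; rfl)⟩
      · refine ⟨σ * τ', τ * σ', Or.inl ?_⟩
        rw [mul_assoc, ← mul_assoc (Equiv.sumComm (Fin 5) (Fin 5) : Equiv.Perm Pl), swap_conj, mul_assoc, hsw,
          mul_one, Equiv.Perm.sumCongr_mul]
        rfl
    | inv x _ hx =>
      obtain ⟨σ, τ, rfl | rfl⟩ := hx
      · exact ⟨σ⁻¹, τ⁻¹, Or.inl (hinv _ _)⟩
      · refine ⟨τ⁻¹, σ⁻¹, Or.inr ?_⟩
        rw [mul_inv_rev, hinv, inv_eq_of_mul_eq_one_right hsw, swap_conj]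
        rfl
  obtain ⟨σ, τ, h | h⟩ := key
  · exact ⟨(σ, τ), Or.inl (Subtype.ext h)⟩
  · exact ⟨(σ, τ), Or.inr (Subtype.ext h)⟩

/-- There is no normal 2-subgroup but the trivial one. -/
theorem wreath_two_core (N : Subgroup alternatingFiveWreathTwo) (hN : N.Normal) (h2 : IsPGroup 2 N) : N = ⊥ := by
  haveI := alternatingGroup.isSimpleGroup_five
  haveI : Fact (Nat.Prime 2) := ⟨Nat.prime_two⟩
  have hA : ∀ K : Subgroup (alternatingGroup (Fin 5)), K.Normal → IsPGroup 2 K → K = ⊥ := by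
    intro K hK hp
    refine hK.eq_bot_or_eq_top.resolve_right fun ht => ?_
    obtain ⟨k, hk⟩ := hp.exists_card_eq
    have h60 : 2 * Nat.card (alternatingGroup (Fin 5)) = 120 := by
      rw [Nat.card_eq_fintype_card, two_mul_card_alternatingGroup, Fintype.card_perm, Fintype.card_fin]
      rfl
    rw [ht, Subgroup.card_top] at hk
    have h3 : 3 ∣ 2 ^ k := hk ▸ Dvd.intro 20 (by omega)
    exact absurd (Nat.prime_three.dvd_of_dvd_pow h3) (by norm_num)
  have hcenA : ∀ x : alternatingGroup (Fin 5), (∀ y, x * y = y * x) → x = 1 := by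
    intro x hx
    rcases (inferInstance : (Subgroup.center (alternatingGroup (Fin 5))).Normal).eq_bot_or_eq_top with h | h
    · exact Subgroup.mem_bot.1 (h ▸ Subgroup.mem_center_iff.2 fun y => (hx y).symm)
    · exfalso
      obtain ⟨k, l, hkl⟩ : ∃ k l : Fin 60, ¬ ∀ i, evP k (evP l i) = evP l (evP k i) := by
        decide +kernel
      exact hkl fun i => Equiv.ext_iff.1 (congrArg Subtype.val (Subgroup.mem_center_iff.1
        (h ▸ Subgroup.mem_top (⟨evP l, evP_sign l⟩ : alternatingGroup (Fin 5)))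
          ⟨evP k, evP_sign k⟩)) i
  have hbase : ∀ p, baseHom p ∈ N → p = 1 := by
    intro p hp
    have hleft : ∀ x : alternatingGroup (Fin 5), baseHom (x, 1) ∈ N → x = 1 := fun x hx => by
      have := hA (N.comap (baseHom.comp (MonoidHom.inl _ _))) (hN.comap _)
        (h2.comap_of_injective _ (baseHom_injective.comp fun a b h => (Prod.ext_iff.1 h).1))
      exact Subgroup.mem_bot.1 (this ▸ (show x ∈ N.comap (baseHom.comp (MonoidHom.inl _ _)) from hx))
    have hright : ∀ x : alternatingGroup (Fin 5), baseHom (1, x) ∈ N → x = 1 := fun x hx => by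
      have := hA (N.comap (baseHom.comp (MonoidHom.inr _ _))) (hN.comap _)
        (h2.comap_of_injective _ (baseHom_injective.comp fun a b h => (Prod.ext_iff.1 h).2))
      exact Subgroup.mem_bot.1 (this ▸ (show x ∈ N.comap (baseHom.comp (MonoidHom.inr _ _)) from hx))
    refine Prod.ext (hcenA _ fun y => ?_) (hcenA _ fun y => ?_)
    · have h := hleft (p.1 * y * p.1⁻¹ * y⁻¹) (by
        have := mul_mem hp (hN.conj_mem _ (inv_mem hp) (baseHom (y, 1)))
        rwa [← map_inv, ← map_inv, ← map_mul, ← map_mul, ← map_mul,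
          show p * ((y, 1) * p⁻¹ * (y, 1)⁻¹) = (p.1 * y * p.1⁻¹ * y⁻¹, 1) from
            Prod.ext (by simp [mul_assoc]) (by simp)] at this)
      exact commutatorElement_eq_one_iff_mul_comm.1 h
    · have h := hright (p.2 * y * p.2⁻¹ * y⁻¹) (by
        have := mul_mem hp (hN.conj_mem _ (inv_mem hp) (baseHom (1, y)))
        rwa [← map_inv, ← map_inv, ← map_mul, ← map_mul, ← map_mul,
          show p * ((1, y) * p⁻¹ * (1, y)⁻¹) = (1, p.2 * y * p.2⁻¹ * y⁻¹) from
            Prod.ext (by simp) (by simp [mul_assoc])] at this)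
      exact commutatorElement_eq_one_iff_mul_comm.1 h
  rw [Subgroup.eq_bot_iff_forall]
  intro n hn
  obtain ⟨p, rfl | rfl⟩ := wreath_cases n
  · rw [hbase p hn, map_one]
  · exfalso
    obtain ⟨k, hk⟩ : ∃ k : Fin 60, evP k ≠ 1 :=
      ⟨1, fun h => absurd (evP_injective 1 0 fun x => by rw [h]; revert x; decide +kernel) (by decide)⟩
    set x : alternatingGroup (Fin 5) := ⟨evP k, evP_sign k⟩
    have h1 := mul_mem hn (hN.conj_mem _ (inv_mem hn) (baseHom (x, 1)))
    set s : alternatingFiveWreathTwo := ⟨_, swap_mem⟩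
    have hs : s * (baseHom (x, 1))* s⁻¹ = baseHom (1, x) := by
      rw [mul_inv_eq_iff_eq_mul]
      exact Subtype.ext (swap_conj x.1 1)
    rw [show baseHom p * s * (baseHom (x, 1) * (baseHom p * s)⁻¹ * (baseHom (x, 1))⁻¹) =
      baseHom p * (s * baseHom (x, 1) * s⁻¹) * (baseHom p)⁻¹ * (baseHom (x, 1))⁻¹ by group, hs,
      ← map_inv, ← map_inv, ← map_mul, ← map_mul, ← map_mul] at h1
    have h2 := hbase _ h1
    have h3 := (Prod.ext_iff.1 h2).1
    simp at h3
    exact hk (congrArg Subtype.val h3)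

end Cfsg.Lib.MonsterFive
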