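import Cfsg.Agent.Lib.MonsterFive.PermNorm
import Cfsg.Agent.Lib.MonsterFive.Wreath

/-!
Maps carrying the ten subspaces to one another: two centralizing maps, their words, and the monomial maps.
-/

set_option autoImplicit false
set_option maxRecDepth 100000

namespace Cfsg.Lib.MonsterFive

open Cfsg Cfsg.Lib.Concrete Cfsg.Lib.MonsterLocal

theorem ten_check : ∀ i : Pl, (tenL.getD (plIdx i) []).Nodup ∧ (tenL.getD (plIdx i) []).length = 15 ∧
    (tenL.getD (plIdx i) []).all (fun c => decide (c < 256)) = true := by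
  decide +kernel

theorem ten_distinct : ∀ i j : Pl,
    (tenL.getD (plIdx i) []).all (fun c => (tenL.getD (plIdx j) []).contains c) = true → i = j := by
  decide +kernel

/-- The `i`th subspace, without zero. -/
def Sub (i : Pl) : Set V := (fun c => phi (bits 8 c)) '' {c | c ∈ tenL.getD (plIdx i) []}

theorem ten_lt {i : Pl} {c : ℕ} (h : c ∈ tenL.getD (plIdx i) []) : c < 256 := by
  simpa using List.all_eq_true.1 (ten_check i).2.2 c h

theorem ncard_Sub (i : Pl) : (Sub i).ncard = 15 := by
  have : {c | c ∈ tenL.getD (plIdx i) []} = ((tenL.getD (plIdx i) []).toFinset : Set ℕ) := by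
    ext c; simp
  rw [Sub, this, Set.InjOn.ncard_image, Set.ncard_coe_finset, List.toFinset_card_of_nodup (ten_check i).1]
  · exact (ten_check i).2.1
  · intro a ha b hb e
    simp only [SetLike.mem_coe, List.mem_toFinset] at ha hb
    exact bits_inj (ten_lt ha) (ten_lt hb) (phi_injective e)

theorem mem_Sub {i : Pl} {c : ℕ} (hc : c < 256) : phi (bits 8 c) ∈ Sub i ↔ c ∈ tenL.getD (plIdx i) [] := by
  constructor
  · rintro ⟨d, hd, e⟩
    exact bits_inj (ten_lt hd) hc (phi_injective e) ▸ hd
  · intro h
    exact ⟨c, h, rfl⟩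

theorem Sub_injective : Function.Injective Sub := fun i j h => ten_distinct i j <| List.all_eq_true.2 fun c hc => by
  have : phi (bits 8 c) ∈ Sub j := h ▸ ⟨c, hc, rfl⟩
  simpa using (mem_Sub (ten_lt hc)).1 this

/-- A map carries the subspaces as a permutation of the places says. -/
def Moves (g : Co0) (π : Equiv.Perm Pl) : Prop := ∀ i, qact g '' Sub i = Sub (π i)

theorem Moves.one : Moves 1 1 := fun i => by simp [qact_one]

theorem Moves.mul {g h : Co0} {a b : Equiv.Perm Pl} (hg : Moves g a) (hh : Moves h b) : Moves (g * h) (a * b) :=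
  fun i => by
    rw [Equiv.Perm.mul_apply, ← hg, ← hh, ← Set.image_comp]
    exact Set.image_congr fun q _ => qact_mul g h q

theorem Moves.inv {g : Co0} {a : Equiv.Perm Pl} (hg : Moves g a) : Moves g⁻¹ a⁻¹ := fun i => by
  have h := hg (a⁻¹ i)
  rw [show a (a⁻¹ i) = i from a.apply_symm_apply i] at h
  rw [← h, ← Set.image_comp]
  exact (Set.image_congr fun q _ => qact_inv_self g q).trans (Set.image_id' _)

theorem Moves.unique {g : Co0} {a b : Equiv.Perm Pl} (ha : Moves g a) (hb : Moves g b) : a = b :=
  Equiv.ext fun i => Sub_injective ((ha i).symm.trans (hb i))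

theorem Moves.of_fix {g : Co0} (h : ∀ q ∈ fixSet f0, qact g q = q) : Moves g 1 := fun i => by
  refine (Set.image_congr fun q hq => ?_).trans (Set.image_id' _)
  obtain ⟨c, -, rfl⟩ := hq
  exact h _ (phi_fixed _)

theorem combL_unit : ∀ i : Fin 8, combV (1 <<< i.val) = basV i := by
  intro i
  funext p
  fin_cases i <;> simp [combV, Nat.testBit]

/-- A map given on the spanning classes acts by the linear extension. -/
theorem qact_lin {g : Co0} {L : ℕ} (h : ∀ i : Fin 8, qact g (cls (bas i)) = phi (bits 8 (aget L i.val)))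
    (c : ℕ) : qact g (phi (bits 8 c)) = phi (bits 8 (lmap L c)) := by
  have hb : ∀ (b : Bool) (i : Fin 8),
      qact g (cls (bif b then bas i else 0)) = phi (bits 8 (bif b then aget L i.val else 0)) := by
    intro b i
    cases b
    · show qact g (cls 0) = phi (bits 8 0)
      rw [bits_zero, map_zero]
      exact map_zero (qact g)
    · exact h i
  rw [phi_bits]
  simp only [combL, lmap, bits_xor, map_add, QuotientAddGroup.mk_add, hb]
  rfl

theorem qact_lin' {g : Co0} {L : ℕ} {f : (GolayPt → ℤ) → GolayPt → ℤ}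
    (hf : ∀ v : leechLattice, ((g • v : leechLattice) : GolayPt → ℤ) = f (v : GolayPt → ℤ))
    (h : (List.range 8).all (fun i => eqMod2 (f (combV (1 <<< i))) (combV (aget L i))) = true) (c : ℕ) :
    qact g (phi (bits 8 c)) = phi (bits 8 (lmap L c)) := by
  refine qact_lin (fun i => ?_) c
  rw [qact_cls]
  refine cls_comb_eq ?_
  rw [hf, show ((bas i : leechLattice) : GolayPt → ℤ) = combV (1 <<< i.val) from (combL_unit i).symm]
  exact List.all_eq_true.1 h i.val (List.mem_range.2 i.isLt)

theorem all_places : ∀ i : Pl,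
    i ∈ [Sum.inl (0 : Fin 5), .inl 1, .inl 2, .inl 3, .inl 4, .inr 0, .inr 1, .inr 2, .inr 3, .inr 4] := by
  rintro (i | i) <;> fin_cases i <;> simp

theorem moves_of {g : Co0} {L n : ℕ} (hL : ∀ c, qact g (phi (bits 8 c)) = phi (bits 8 (lmap L c)))
    (hm : moves L n = true) : Moves g (wEl n) := fun i => by
  refine Set.eq_of_subset_of_ncard_le ?_ (by
    rw [Set.ncard_image_of_injective _ (qact_injective g), ncard_Sub, ncard_Sub]) ?_
  · rintro _ ⟨_, ⟨c, hc, rfl⟩, rfl⟩
    refine ⟨lmap L c, ?_, (hL c).symm⟩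
    have t := List.all_eq_true.1 (List.all_eq_true.1 hm i (all_places i)) c hc
    simpa using t
  · exact (List.finite_toSet _).image _

theorem mul_f0_ext {g a : Co0} (h : ∀ v : leechLattice, g • (f0 • v) = a • (g • v)) : g * f0 = a * g :=
  Subtype.ext (Equiv.ext fun v => h v)

theorem f0_coe (v : leechLattice) :
    ((f0 • v : leechLattice) : GolayPt → ℤ) = fun q => (v : GolayPt → ℤ) (sigma.symm q) :=
  funext fun q => by simpa using f0_pow_smul 1 v q

/-- The first centralizing map. -/
noncomputable def uE : Co0 := matCo0 uMat u_ok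

/-- The second centralizing map. -/
noncomputable def mE : Co0 := monoCo0 mSigma mSigma_mem ∅ empty_mem_codeSets

theorem matFun_twist {L : List (List ℤ)}
    (h : ∀ i j : Fin 24, matEntry L (gidx (sigma (gpt i))) (gidx (sigma (gpt j))) = matEntry L i j)
    (x : GolayPt → ℤ) (p : GolayPt) :
    matFun L (fun q => x (sigma.symm q)) p = matFun L x (sigma.symm p) := by
  have hs : matDot L (fun q => x (sigma.symm q)) (gidx p) = matDot L x (gidx (sigma.symm p)) := by
    have e : ∀ (i : Fin 24) (y : GolayPt → ℤ), matDot L y i = ∑ q, matEntry L i (gidx q) * y q := fun i y => by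
      rw [matDot_eq, sum_gpt fun q => matEntry L i (gidx q) * y q]
      simp only [gidx_gpt]
    rw [e, e, ← Equiv.sum_comp sigma]
    refine Finset.sum_congr rfl fun q _ => ?_
    have := h (gidx (sigma.symm p)) (gidx q)
    rw [gpt_gidx, gpt_gidx, Equiv.apply_symm_apply] at this
    rw [this, Equiv.symm_apply_apply]
  simp only [matFun, hs]

theorem uE_comm : uE * f0 = f0 * uE := by
  refine mul_f0_ext fun v => Subtype.ext ?_
  rw [f0_coe]
  show matFun uMat (f0 • v : leechLattice) = fun q => matFun uMat v (sigma.symm q)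
  rw [f0_coe]
  exact funext (matFun_twist u_comm _)

theorem mE_comm : mE * f0 = f0 * mE := by
  rw [show mE = permHom ⟨mSigma, mSigma_mem⟩ from rfl, f0, ← map_mul, ← map_mul]
  exact congrArg permHom (Subtype.ext (Equiv.ext m_comm))

theorem uE_lin (c : ℕ) : qact uE (phi (bits 8 c)) = phi (bits 8 (lmap uAct.1 c)) :=
  qact_lin' (fun _ => matCo0_apply ..) gen_check.1 c

theorem mE_lin (c : ℕ) : qact mE (phi (bits 8 c)) = phi (bits 8 (lmap mAct.1 c)) :=
  qact_lin' (fun v => monoCo0_smul _ _ _ _ v) gen_check.2 c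

/-- The element of a word, bit-coded with a leading one. -/
noncomputable def wordE : ℕ → ℕ → Co0
  | 0, _ => 1
  | n + 1, w => bif w ≤ 1 then 1 else (bif w.testBit 0 then mE else uE) * wordE n (w / 2)

/-- The action of a word on the classes. -/
def wordLin : ℕ → ℕ → ℕ → ℕ
  | 0, _, c => c
  | n + 1, w, c =>
    bif w ≤ 1 then c else lmap (bif w.testBit 0 then mAct.1 else uAct.1) (wordLin n (w / 2) c)

/-- The action of a word on the places. -/
def wordPerm : ℕ → ℕ → Equiv.Perm Pl
  | 0, _ => 1
  | n + 1, w => bif w ≤ 1 then 1 else wEl (bif w.testBit 0 then mAct.2 else uAct.2) * wordPerm n (w / 2)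

theorem wordPerm_mem : ∀ n w : ℕ, wordPerm n w ∈ alternatingFiveWreathTwo
  | 0, _ => one_mem _
  | n + 1, w => by
    simp only [wordPerm]
    cases decide (w ≤ 1)
    · exact mul_mem (wEl_mem _) (wordPerm_mem n _)
    · exact one_mem _

theorem wordE_moves : ∀ n w : ℕ, Moves (wordE n w) (wordPerm n w)
  | 0, _ => Moves.one
  | n + 1, w => by
    simp only [wordE, wordPerm]
    cases decide (w ≤ 1)
    · refine Moves.mul ?_ (wordE_moves n _)
      cases w.testBit 0
      · exact moves_of uE_lin moves_check.2.2.1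
      · exact moves_of mE_lin moves_check.2.2.2
    · exact Moves.one

theorem wordE_comm : ∀ n w : ℕ, Commute (wordE n w) f0
  | 0, _ => Commute.one_left _
  | n + 1, w => by
    simp only [wordE]
    cases decide (w ≤ 1)
    · refine Commute.mul_left ?_ (wordE_comm n _)
      cases w.testBit 0
      · exact uE_comm
      · exact mE_comm
    · exact Commute.one_left _

theorem wordE_lin : ∀ (n w c : ℕ), qact (wordE n w) (phi (bits 8 c)) = phi (bits 8 (wordLin n w c))
  | 0, _, _ => qact_one _
  | n + 1, w, c => by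
    simp only [wordE, wordLin]
    cases decide (w ≤ 1)
    · cases w.testBit 0
      · simp only [cond_false, qact_mul, wordE_lin n, uE_lin]
      · simp only [cond_false, cond_true, qact_mul, wordE_lin n, mE_lin]
    · exact qact_one _

theorem phi_top : phi (bits 8 1) = cls top := by
  rw [phi_bits]
  refine congrArg cls (Subtype.ext ?_)
  rw [combL_coe]
  show combV 1 = Pi.single none 8
  decide +kernel

theorem monomial_of_mem {h : Co0} (hh : h ∈ crossStab) :
    ∃ σ : Equiv.Perm GolayPt, σ ∈ M24 ∧ ∃ c ∈ codeSets,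
      ∀ v : leechLattice, ((h • v : leechLattice) : GolayPt → ℤ) = signedPerm σ c v := by
  obtain ⟨σ, c, hc, e⟩ := crossStab_monomial ⟨h, hh⟩
  exact ⟨σ.1, σ.2, c, hc, e⟩

theorem mset_univ : mset 16777215 = Finset.univ := by decide +kernel

/-- A centralizing map fixing the top class is one of the listed monomial maps. -/
theorem cross_moves {g : Co0} (hc : g ∈ crossStab) (hcomm : Commute g f0) :
    ∃ pq ∈ centPerms, ∃ e ∈ fixCodes, Moves g (wEl e.2.2 * wEl pq.2.2.2) ∧
      ∀ k < 5, (∀ i ∈ bits24, pget pq.1 i = pget (sPow k) i) → (e.1 = 0 ∨ e.1 = 16777215) →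
        g ∈ Subgroup.center Co0 ⊔ Subgroup.zpowers f0 := by
  obtain ⟨σ, hσ, c, hcc, hv⟩ := monomial_of_mem hc
  obtain ⟨m, hm, rfl⟩ := mem_supports_iff.1 hcc
  have hrel : ∀ p : GolayPt, σ (sigma p) = sigma (σ p) ∧ (sigma p ∈ mset m ↔ p ∈ mset m) := by
    have key : ∀ p : GolayPt, σ (sigma p) = sigma (σ p) ∧ (sigma (σ p) ∈ mset m ↔ σ p ∈ mset m) := by
      intro p
      have h1 := congrArg (fun y : leechLattice => (y : GolayPt → ℤ))
        (show g • (f0 • e8 p) = f0 • (g • e8 p) by rw [← mul_smul, hcomm.eq, mul_smul])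
      simp only [hv, f0_coe] at h1
      have h2 := congrFun h1 (σ (sigma p))
      simp only [signedPerm, Equiv.symm_apply_apply, e8, Pi.single_eq_same] at h2
      have heq : σ (sigma p) = sigma (σ p) := by
        by_contra hne
        rw [Pi.single_eq_of_ne (show σ.symm (sigma.symm (σ (sigma p))) ≠ p from fun e =>
          hne ((Equiv.symm_apply_eq _).1 ((Equiv.symm_apply_eq _).1 e |>.symm ▸ rfl)))] at h2
        split at h2 <;> omega
      refine ⟨heq, ?_⟩
      rw [heq, Equiv.symm_apply_apply, Equiv.symm_apply_apply, Pi.single_eq_same] at h2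
      by_cases a : sigma (σ p) ∈ mset m <;> by_cases b : σ p ∈ mset m <;>
        simp only [a, b, if_true, if_false] at h2 ⊢ <;> omega
    intro p
    refine ⟨(key p).1, ?_⟩
    have := (key (σ.symm p)).2
    rwa [Equiv.apply_symm_apply] at this
  obtain ⟨pq, hpq, hrep⟩ := centralizer_perm hσ fun p => (hrel p).1
  obtain ⟨e, he, hem⟩ : ∃ e ∈ fixCodes, e.1 = m := by
    have t := List.all_eq_true.1 codes_check m hm
    have hall : bits24.all (fun i => m.testBit (pget (sPow 1) i) == m.testBit i) = true := by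
      refine List.all_eq_true.2 fun i hi => ?_
      have h1 := (hrel (gpt ⟨i, mem_bits24.1 hi⟩)).2
      rw [mem_mset, mem_mset, rep_sigma, gidx_gpt] at h1
      rw [beq_iff_eq, Bool.eq_iff_iff]
      exact h1
    rw [hall] at t
    simpa using t
  refine ⟨pq, hpq, e, he, ?_, ?_⟩
  · have hq : ∀ p : GolayPt, σ.symm p = gpt (Fin.ofNat 24 (pget pq.2.1 (gidx p).val)) := by
      intro p
      have t := List.all_eq_true.1 (List.all_eq_true.1 perm_check pq hpq) _ (mem_bits24.2 (gidx p).isLt)
      simp only [Bool.and_eq_true, decide_eq_true_eq, beq_iff_eq] at t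
      refine (Equiv.symm_apply_eq _).2 (gidx_injective (Fin.ext ?_))
      rw [hrep, gidx_gpt]
      simp [Fin.ofNat, Nat.mod_eq_of_lt t.1.2, t.2]
    have hP : Moves (permHom ⟨σ, hσ⟩) (wEl pq.2.2.2) := by
      refine moves_of (qact_lin' (L := pq.2.2.1) (f := monoV pq.2.1 0) (fun v => funext fun p => ?_)
        (List.all_eq_true.1 permAct_check pq hpq)) (List.all_eq_true.1 moves_check.1 pq hpq)
      rw [permHom_smul]
      simp [monoV, hq p]
    have hS : Moves (monoCo0 1 (one_mem M24) (mset m) hcc) (wEl e.2.2) := by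
      have t := List.all_eq_true.1 signAct_check e he
      simp only [Bool.and_eq_true] at t
      refine moves_of (qact_lin' (L := e.2.1) (f := monoV pId e.1) (fun v => funext fun p => ?_) t.2)
        (List.all_eq_true.1 moves_check.2.1 e he)
      rw [monoCo0_smul]
      have := rep_apply' rep_one p
      simp only [Equiv.Perm.one_apply] at this
      simp only [signedPerm, monoV, mem_mset, hem, ← this, Bool.cond_eq_ite]
      rfl
    have hprod : g = monoCo0 1 (one_mem M24) (mset m) hcc * permHom ⟨σ, hσ⟩ := by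
      refine Subtype.ext (Equiv.ext fun v => ?_)
      show g • v = (monoCo0 1 (one_mem M24) (mset m) hcc * permHom ⟨σ, hσ⟩) • v
      refine Subtype.ext (funext fun p => ?_)
      rw [mul_smul, monoCo0_smul, hv]
      simp only [signedPerm, permHom_smul]
      rfl
    rw [hprod]
    exact hS.mul hP
  · intro k hk hk' hm'
    have hs : σ = sigma ^ k := Equiv.ext fun p => by
      rw [rep_apply' hrep, hk' _ (mem_bits24.2 (gidx p).isLt), ← rep_apply' (rep_pow k hk)]
    suffices hcent : g * (f0 ^ k)⁻¹ ∈ Subgroup.center Co0 by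
      rw [← inv_mul_cancel_right g (f0 ^ k)]
      exact Subgroup.mul_mem_sup hcent (Subgroup.npow_mem_zpowers f0 k)
    refine mem_center_of_trivial_mod_two fun v => ?_
    have e' : ∀ p, ((((g * (f0 ^ k)⁻¹) • v : leechLattice) : GolayPt → ℤ)) p =
        if p ∈ mset m then -(v : GolayPt → ℤ) p else (v : GolayPt → ℤ) p := by
      intro p
      rw [mul_smul, hv]
      simp only [signedPerm, f0_pow_inv_smul k hk, ← rep_apply' (rep_pow k hk), hs, Equiv.apply_symm_apply]
    rw [hem] at hm'
    rcases hm' with rfl | rfl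
    · refine ⟨0, ?_⟩
      funext p
      simp [e', mset_zero]
    · refine ⟨-v, ?_⟩
      funext p
      simp only [Pi.sub_apply, e', mset_univ, Finset.mem_univ, if_true, AddSubgroup.coe_neg, Pi.smul_apply,
        Pi.neg_apply, nsmul_eq_mul]
      push_cast
      ring

end Cfsg.Lib.MonsterFive
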