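import Cfsg.Agent.Lib.MonsterFive.Fixed

/-!
The permutations of the Mathieu group centralizing the group of order five.
-/

set_option autoImplicit false
set_option maxRecDepth 100000

namespace Cfsg.Lib.MonsterFive

open Cfsg Cfsg.Lib.Concrete
open scoped Pointwise

theorem smul_mset_fun {g : Equiv.Perm GolayPt} {f : ℕ → ℕ} (hf : ∀ x : GolayPt, (gidx (g x)).val = f (gidx x).val)
    (m : ℕ) : g • mset m = mset (orMask bits24 (fun i => m.testBit i) f) := by
  ext y
  rw [Finset.mem_smul_finset, mem_mset, testBit_orMask]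
  constructor
  · rintro ⟨x, hx, rfl⟩
    exact ⟨(gidx x).val, mem_bits24.2 (gidx x).isLt, mem_mset.1 hx, (hf x).symm⟩
  · rintro ⟨i, hi, hm, hp⟩
    refine ⟨gpt ⟨i, mem_bits24.1 hi⟩, by simpa [gidx_gpt] using hm, gidx_injective (Fin.ext ?_)⟩
    show (gidx (g (gpt ⟨i, mem_bits24.1 hi⟩))).val = _
    rw [hf, gidx_gpt]; exact hp

/-- The image of a supported set under a map of the points given on numbers is again one. -/
theorem isCode_image {g : Equiv.Perm GolayPt} (hg : g ∈ M24) {f : ℕ → ℕ}
    (hf : ∀ x : GolayPt, (gidx (g x)).val = f (gidx x).val) {m : ℕ} (hm : m < 16777216) (hc : isCode m = true) :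
    isCode (orMask bits24 (fun i => m.testBit i) f) = true := by
  have hs := mem_M24_iff.1 hg _ ((mset_mem_supports_iff hm).2 hc)
  rw [smul_mset_fun hf] at hs
  refine (mset_mem_supports_iff (orMask_lt _ _ _ fun i hi _ => ?_)).1 hs
  have := hf (gpt ⟨i, mem_bits24.1 hi⟩)
  rw [gidx_gpt] at this
  exact this ▸ (gidx _).isLt

theorem fix_table : bits24.all (fun i => (pget (sPow 1) i == i) == fixPts.contains i) = true := by
  decide +kernel

theorem rep_table : ([0, 1, 2, 3, 4, 5, 6, 7].all fun j => decide (orbRep j < 24) &&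
    (decide (j < 4) == fixPts.contains (orbRep j))) = true ∧
    [orbRep 0, orbRep 1, orbRep 2, orbRep 3].Nodup := by
  decide +kernel

/-- The centralizer in the Mathieu group consists of the listed permutations. -/
theorem centralizer_perm {g : Equiv.Perm GolayPt} (hg : g ∈ M24) (h : ∀ x, g (sigma x) = sigma (g x)) :
    ∃ pq ∈ centPerms, Concrete.Rep g pq.1 := by
  have hpow : ∀ k x, g ((sigma ^ k) x) = (sigma ^ k) (g x) := by
    intro k
    induction k with
    | zero => intro x; simp
    | succ k ih => intro x; rw [pow_succ, Equiv.Perm.mul_apply, ih, h, ← Equiv.Perm.mul_apply]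
  obtain ⟨n, hn⟩ : ∃ n : ℕ → ℕ, ∀ j, (gidx (g (gpt (Fin.ofNat 24 (orbRep j))))).val = n j :=
    ⟨_, fun _ => rfl⟩
  have hnlt : ∀ j, n j < 24 := fun j => hn j ▸ (gidx _).isLt
  have hgn : ∀ j, g (gpt (Fin.ofNat 24 (orbRep j))) = gpt (Fin.ofNat 24 (n j)) := fun j => by
    rw [← hn j, gpt_val]
  have hrep : ∀ j ∈ [0, 1, 2, 3, 4, 5, 6, 7], orbRep j < 24 ∧ decide (j < 4) = fixPts.contains (orbRep j) := by
    intro j hj
    have := List.all_eq_true.1 rep_table.1 j hj
    simpa [Bool.and_eq_true, beq_iff_eq] using this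
  have hfixed : ∀ j ∈ [0, 1, 2, 3, 4, 5, 6, 7], (n j ∈ fixPts ↔ j < 4) := by
    intro j hj
    obtain ⟨t1', t2'⟩ := hrep j hj
    have t1 := List.all_eq_true.1 fix_table (n j) (mem_bits24.2 (hnlt j))
    have t2 := List.all_eq_true.1 fix_table (orbRep j) (mem_bits24.2 t1')
    simp only [beq_iff_eq] at t1 t2
    rw [← List.contains_iff_mem, ← t1, ← decide_eq_true_eq (p := j < 4), t2', ← t2, beq_iff_eq, beq_iff_eq]
    set P : GolayPt := gpt (Fin.ofNat 24 (orbRep j)) with hP
    have e1 : (gidx P).val = orbRep j := by simp [hP, gidx_gpt, Fin.ofNat, Nat.mod_eq_of_lt t1']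
    have r1 := rep_sigma (g P)
    have r2 := rep_sigma P
    rw [hn j] at r1
    rw [e1] at r2
    rw [← r1, ← r2, ← h, ← hn j, ← e1]
    rw [gpt_val]
    constructor
    · intro a; rw [g.injective (gidx_injective (Fin.ext a))]
    · intro a; rw [gidx_injective (Fin.ext a)]
  have hne : ∀ i ∈ [0, 1, 2, 3, 4, 5, 6, 7], ∀ j ∈ [0, 1, 2, 3, 4, 5, 6, 7],
      n i = n j → orbRep i = orbRep j := by
    intro i hi j hj heq
    have := congrArg Fin.val (congrArg gidx (g.injective ((hgn i).trans ((by rw [heq] : _ = _).trans (hgn j).symm))))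
    simpa [gidx_gpt, Fin.ofNat, Nat.mod_eq_of_lt (hrep i hi).1, Nat.mod_eq_of_lt (hrep j hj).1] using this
  have hmov : ∀ j ∈ [4, 5, 6, 7], n j ∈ movPts := by
    intro j hj
    have hj' : j ∈ [0, 1, 2, 3, 4, 5, 6, 7] := by revert hj; simp; omega
    have t := List.all_eq_true.1 orb_check (n j) (mem_bits24.2 (hnlt j))
    simp only [Bool.and_eq_true] at t
    have hf : ¬ n j ∈ fixPts := fun c => by have := (hfixed j hj').1 c; revert hj; simp; omega
    have t5 := t.2
    rw [show fixPts.contains (n j) = false by simpa using hf] at t5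
    simpa using t5
  have hval : ∀ x : GolayPt,
      (gidx (g x)).val = candVal [n 0, n 1, n 2, n 3, n 4, n 5, n 6, n 7] (gidx x).val := by
    intro x
    have t := List.all_eq_true.1 orb_check _ (mem_bits24.2 (gidx x).isLt)
    simp only [Bool.and_eq_true, decide_eq_true_eq, beq_iff_eq] at t
    obtain ⟨⟨⟨⟨tj, tk⟩, tv⟩, -⟩, -⟩ := t
    set j := pget orbJ (gidx x).val with hj
    set k := pget orbK (gidx x).val with hk
    have hjm : j ∈ [0, 1, 2, 3, 4, 5, 6, 7] := by simp; omega
    have hx : x = (sigma ^ k) (gpt (Fin.ofNat 24 (orbRep j))) := by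
      rw [rep_apply' (rep_pow k tk), show (gidx (gpt (Fin.ofNat 24 (orbRep j)))).val = orbRep j by
        simp [gidx_gpt, Fin.ofNat, Nat.mod_eq_of_lt (hrep j hjm).1], tv, gpt_val]
    conv_lhs => rw [hx, hpow, rep_pow _ tk, hn]
    rw [candVal, ← hj, ← hk]
    congr 1
    clear_value j
    interval_cases j <;> rfl
  have hoct : ∀ j ∈ [0, 1, 2, 3], octOk (n 0) (n 1) (n 2) (n 3) (n (4 + j)) j = true := by
    intro j hj
    have t := List.all_eq_true.1 oct_check j hj
    simp only [Bool.and_eq_true, decide_eq_true_eq, List.all_eq_true, Bool.or_eq_true,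
      Bool.not_eq_true', beq_iff_eq] at t
    obtain ⟨⟨tc, tl⟩, tp⟩ := t
    have h' := isCode_image hg hval tl tc
    suffices heq : ∀ i ∈ bits24, (cycOctads.getD j 0).testBit i = true →
        candVal [n 0, n 1, n 2, n 3, n (4 + j), n (4 + j), n (4 + j), n (4 + j)] i
          = candVal [n 0, n 1, n 2, n 3, n 4, n 5, n 6, n 7] i by
      unfold octOk
      convert h' using 2
      refine Nat.eq_of_testBit_eq fun b => Bool.eq_iff_iff.2 ?_
      rw [testBit_orMask, testBit_orMask]
      exact ⟨fun ⟨i, hi, hm, e⟩ => ⟨i, hi, hm, (heq i hi hm).symm.trans e⟩,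
        fun ⟨i, hi, hm, e⟩ => ⟨i, hi, hm, (heq i hi hm).trans e⟩⟩
    intro i hi hm
    have t' := List.all_eq_true.1 orb_check i hi
    simp only [Bool.and_eq_true, decide_eq_true_eq] at t'
    have tJ : pget orbJ i < 8 := t'.1.1.1.1
    simp only [List.mem_cons, List.not_mem_nil, or_false] at hj
    unfold candVal
    rcases tp i hi with (e | e) | e
    · rw [hm] at e; cases e
    · congr 1
      generalize pget orbJ i = J at e
      interval_cases J <;> rfl
    · congr 1
      rw [e]
      rcases hj with rfl | rfl | rfl | rfl <;> rfl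
  have hleaf : candLeaf [n 0, n 1, n 2, n 3, n 4, n 5, n 6, n 7] = true := by
    have m0 := (hfixed 0 (by simp)).2 (by norm_num)
    have m1 := (hfixed 1 (by simp)).2 (by norm_num)
    have m2 := (hfixed 2 (by simp)).2 (by norm_num)
    have m3 := (hfixed 3 (by simp)).2 (by norm_num)
    have t := List.all_eq_true.1 (List.all_eq_true.1 (List.all_eq_true.1 cand_check _ m0) _ m1) _ m2
    simp only [candAll, Bool.or_eq_true, beq_iff_eq] at t
    have hd := rep_table.2
    simp at hd
    rcases t with ((t | t) | t) | t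
    · exact absurd (hne 0 (by simp) 1 (by simp) t) hd.1.1
    · exact absurd (hne 0 (by simp) 2 (by simp) t) hd.1.2.1
    · exact absurd (hne 1 (by simp) 2 (by simp) t) hd.2.1.1
    have t2 := List.all_eq_true.1 t (n 3) m3
    simp only [Bool.or_eq_true, beq_iff_eq] at t2
    rcases t2 with ((t2 | t2) | t2) | t2
    · exact absurd (hne 0 (by simp) 3 (by simp) t2.symm) hd.1.2.2
    · exact absurd (hne 1 (by simp) 3 (by simp) t2.symm) hd.2.1.2
    · exact absurd (hne 2 (by simp) 3 (by simp) t2.symm) hd.2.2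
    have t4 := List.all_eq_true.1 t2 (n 4) (hmov 4 (by simp))
    simp only [show octOk (n 0) (n 1) (n 2) (n 3) (n 4) 0 = true from hoct 0 (by simp), Bool.not_true, Bool.false_or] at t4
    have t5 := List.all_eq_true.1 t4 (n 5) (hmov 5 (by simp))
    simp only [show octOk (n 0) (n 1) (n 2) (n 3) (n 5) 1 = true from hoct 1 (by simp), Bool.not_true, Bool.false_or] at t5
    have t6 := List.all_eq_true.1 t5 (n 6) (hmov 6 (by simp))
    simp only [show octOk (n 0) (n 1) (n 2) (n 3) (n 6) 2 = true from hoct 2 (by simp), Bool.not_true, Bool.false_or] at t6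
    have t7 := List.all_eq_true.1 t6 (n 7) (hmov 7 (by simp))
    simpa only [show octOk (n 0) (n 1) (n 2) (n 3) (n 7) 3 = true from hoct 3 (by simp), Bool.not_true, Bool.false_or] using t7
  simp only [candLeaf, Bool.or_eq_true, Bool.not_eq_true'] at hleaf
  rcases hleaf with hbad | hany
  · exfalso
    obtain ⟨b, hb, hb'⟩ := List.all_eq_false.1 hbad
    refine hb' ?_
    have hb2 := List.all_eq_true.1 basis_mem_octads b hb
    simp only [Bool.and_eq_true, decide_eq_true_eq] at hb2
    exact isCode_image hg hval hb2.1.2 hb2.1.1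
  · obtain ⟨pq, hpq, hv⟩ := List.any_eq_true.1 hany
    refine ⟨pq, hpq, fun x => ?_⟩
    rw [hval x, beq_iff_eq.1 (List.all_eq_true.1 hv _ (mem_bits24.2 (gidx x).isLt))]

end Cfsg.Lib.MonsterFive
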