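import Cfsg.Agent.Lib.MonsterFive.Rho
import Cfsg.Agent.Lib.MonsterLocal.Place

/-!
A group of order five in the common centralizer of two commuting central involutions corresponds to the given
automorphism.
-/

set_option autoImplicit false

namespace Cfsg.Lib.MonsterFive

open Cfsg Cfsg.Lib.Concrete Cfsg.Lib.MonsterLocal

theorem f0_ne_one : f0 ≠ 1 := by
  intro h
  have h1 : sigma = 1 := by
    have e := crossPerm_permHom ⟨sigma, sigma_mem⟩
    have e1 : (⟨permHom ⟨sigma, sigma_mem⟩, permHom_mem _⟩ : crossStab) = 1 := Subtype.ext h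
    rw [e1, map_one] at e
    exact congrArg Subtype.val e.symm
  have h2 : sigma (gpt 0) ≠ gpt 0 := by decide +kernel
  exact h2 (by rw [h1]; rfl)

/-- A group of order five centralizing two commuting central involutions. -/
theorem exists_datum {G : Type*} [Group G] [Finite G] {z : G}
    {Q : Subgroup (Subgroup.centralizer ({z} : Set G))} [Q.Normal] (hM : IsOfMonsterType z Q) (q : Q)
    (hc : IsConj z ((q : Subgroup.centralizer ({z} : Set G)) : G))
    (hne : ((q : Subgroup.centralizer ({z} : Set G)) : G) ≠ z) (B : Subgroup G)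
    (hB : B ≤ Subgroup.centralizer ({z, ((q : Subgroup.centralizer ({z} : Set G)) : G)} : Set G))
    (hBp : Nat.card B = 5 ^ (Nat.card ↥(Subgroup.centralizer
      ({z, ((q : Subgroup.centralizer ({z} : Set G)) : G)} : Set G))).factorization 5) :
    ∃ a : G, B = Subgroup.zpowers a ∧ Commute a ((q : Subgroup.centralizer ({z} : Set G)) : G) ∧
      Nonempty (Datum z Q f0 5 a) := by
  haveI : Fact (Nat.Prime 5) := ⟨by norm_num⟩
  set s := ((q : Subgroup.centralizer ({z} : Set G)) : G) with hs
  obtain ⟨e, ψ, hψ, hrep, k, hk⟩ := exists_cross_rep hM q hc hne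
  have hB5 : Nat.card B = 5 := by
    rw [hBp, hk, Nat.factorization_mul (by positivity) (by norm_num), Nat.Prime.factorization_pow Nat.prime_two,
      Finsupp.add_apply, Finsupp.single_eq_of_ne (by norm_num)]
    rw [show (2 : ℕ) ^ 21 * 239085 = 5 * (2 ^ 21 * 47817) by norm_num,
      Nat.factorization_mul (by norm_num) (by norm_num), Finsupp.add_apply,
      Nat.Prime.factorization_self (by norm_num), Nat.factorization_eq_zero_of_not_dvd (by norm_num)]
    norm_num
  haveI : Nontrivial B := Finite.one_lt_card_iff_nontrivial.1 (by rw [hB5]; norm_num)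
  obtain ⟨⟨b, hb⟩, hb1⟩ := exists_ne (1 : B)
  have hbo : orderOf b = 5 := orderOf_eq_prime (by
    have := congrArg Subtype.val (pow_card_eq_one' (x := (⟨b, hb⟩ : B)))
    rwa [hB5] at this) fun h => hb1 (Subtype.ext h)
  have hBz : B = Subgroup.zpowers b :=
    (Subgroup.eq_of_le_of_card_ge (Subgroup.zpowers_le.2 hb) (by rw [Nat.card_zpowers, hbo, hB5])).symm
  have hbzs := Subgroup.mem_centralizer_iff.1 (hB hb)
  have hbC : b ∈ Subgroup.centralizer ({z} : Set G) :=
    Subgroup.mem_centralizer_singleton_iff.2 (hbzs z (by simp)).symm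
  have hbs : Commute b s := (hbzs s (by simp)).symm
  obtain ⟨g, hg, hge⟩ := hrep ⟨b, hbC⟩ hbs
  set bC : Subgroup.centralizer ({z} : Set G) := ⟨b, hbC⟩ with hbCdef
  have hb5 : bC ^ 5 = 1 := Subtype.ext (by rw [SubgroupClass.coe_pow, ← hbo]; exact pow_orderOf_eq_one b)
  set t := g ^ 5 with ht
  have htc : t ∈ Subgroup.center Co0 := by
    rw [← QuotientGroup.eq_one_iff, ht, QuotientGroup.mk_pow, ← hge, ← map_pow, ← QuotientGroup.mk_pow, hb5,
      QuotientGroup.mk_one, map_one]
  have ht2 : t ^ 2 = 1 := by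
    have := congrArg Subtype.val (pow_card_eq_one' (x := (⟨t, htc⟩ : Subgroup.center Co0)))
    rwa [card_center_Co0] at this
  set g' := g * t with hg'
  have hg5 : g' ^ 5 = 1 := by
    rw [hg', (show Commute g t from Subgroup.mem_center_iff.1 htc g).mul_pow, ← ht, ← pow_succ',
      show 5 + 1 = 2 * 3 from rfl, pow_mul, ht2, one_pow]
  have hg'e : (QuotientGroup.mk g' : Spor.Co1) = e (QuotientGroup.mk bC) := by
    rw [hg', QuotientGroup.mk_mul, (QuotientGroup.eq_one_iff t).2 htc, mul_one, hge]
  have hg'c : g' ∈ crossStab := mul_mem hg (center_le_crossStab htc)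
  have hg'1 : g' ≠ 1 := by
    intro h
    rw [h, QuotientGroup.mk_one, eq_comm, MulEquiv.map_eq_one_iff, QuotientGroup.eq_one_iff] at hg'e
    have h1 := orderOf_dvd_natCard (⟨bC, hg'e⟩ : Q)
    rw [Subgroup.orderOf_mk, ← Subgroup.orderOf_coe, hM.1.2.2.2.1] at h1
    have h2 : 5 ∣ 2 ^ (2 * 12 + 1) := hbo ▸ h1
    norm_num at h2
  -- Sylow's theorem in the cross stabiliser
  haveI : Finite crossStab := Nat.finite_of_card_ne_zero (by rw [card_crossStab]; norm_num)
  have hfac : (Nat.card crossStab).factorization 5 = 1 := by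
    rw [card_crossStab, show 4096 * 244823040 = 5 * (4096 * 48964608) by norm_num,
      Nat.factorization_mul (by norm_num) (by norm_num), Finsupp.add_apply,
      Nat.Prime.factorization_self (by norm_num), Nat.factorization_eq_zero_of_not_dvd (by norm_num)]
  have hsyl : ∀ (y : Co0) (hy : y ∈ crossStab), y ^ 5 = 1 → y ≠ 1 →
      Nat.card (Subgroup.zpowers (⟨y, hy⟩ : crossStab)) = 5 ^ (Nat.card crossStab).factorization 5 := by
    intro y hy h5 h1
    rw [Nat.card_zpowers, hfac, pow_one, Subgroup.orderOf_mk]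
    exact orderOf_eq_prime h5 h1
  obtain ⟨x, hx⟩ := MulAction.exists_smul_eq crossStab
    (Sylow.ofCard _ (hsyl g' hg'c hg5 hg'1)) (Sylow.ofCard _ (hsyl f0 f0_mem_crossStab f0_pow_five f0_ne_one))
  have hmem : (⟨f0, f0_mem_crossStab⟩ : crossStab) ∈
      (Subgroup.zpowers (⟨g', hg'c⟩ : crossStab)).map (MulAut.conj x).toMonoidHom := by
    have h := congrArg (fun P : Sylow 5 crossStab => (P : Subgroup crossStab)) hx
    simp only [Sylow.coe_subgroup_smul, Sylow.coe_ofCard] at h
    have hm : (⟨f0, f0_mem_crossStab⟩ : crossStab) ∈ Subgroup.zpowers (⟨f0, f0_mem_crossStab⟩ : crossStab) :=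
      Subgroup.mem_zpowers _
    rw [← h] at hm
    exact hm
  obtain ⟨w, hw, hwf⟩ := hmem
  obtain ⟨i, rfl⟩ := Subgroup.mem_zpowers_iff.1 hw
  have hwf' : (x : Co0) * g' ^ i * (x : Co0)⁻¹ = f0 := congrArg Subtype.val hwf
  refine ⟨b ^ i, ?_, hbs.zpow_left i, ⟨?_⟩⟩
  · have hne1 : b ^ i ≠ 1 := by
      intro h
      have hi : (5 : ℤ) ∣ i := by
        have := orderOf_dvd_iff_zpow_eq_one.2 h
        rwa [hbo] at this
      obtain ⟨m, rfl⟩ := hi
      rw [zpow_mul, show g' ^ (5 : ℤ) = g' ^ (5 : ℕ) from zpow_natCast g' 5, hg5, one_zpow, mul_one,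
        mul_inv_cancel] at hwf'
      exact f0_ne_one hwf'.symm
    rw [hBz]
    refine (Subgroup.eq_of_le_of_card_ge (Subgroup.zpowers_le.2 (Subgroup.zpow_mem_zpowers b i)) ?_).symm
    rw [Nat.card_zpowers, Nat.card_zpowers, hbo]
    refine le_of_eq (orderOf_eq_prime ?_ hne1).symm
    rw [← zpow_natCast, ← zpow_mul, mul_comm, zpow_mul, zpow_natCast, ← hbo, pow_orderOf_eq_one, one_zpow]
  · exact
      { setting := hM.1
        e := e.trans (MulAut.conj (QuotientGroup.mk (x : Co0) : Spor.Co1))
        ψ := fun v => ψ ((x : Co0)⁻¹ • v)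
        iso := twist e ψ hψ x
        prime := by norm_num
        odd := by decide
        mem := zpow_mem hbC i
        order := orderOf_eq_prime (by
          rw [← zpow_natCast, ← zpow_mul, mul_comm, zpow_mul, zpow_natCast, ← hbo, pow_orderOf_eq_one, one_zpow])
          (fun h => by
            have hi := orderOf_dvd_iff_zpow_eq_one.2 h
            rw [hbo] at hi
            obtain ⟨m, rfl⟩ := hi
            rw [zpow_mul, show g' ^ ((5 : ℕ) : ℤ) = g' ^ (5 : ℕ) from zpow_natCast g' 5, hg5, one_zpow, mul_one,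
              mul_inv_cancel] at hwf'
            exact f0_ne_one hwf'.symm)
        fpow := f0_pow_five
        image := by
          rw [show (⟨b ^ i, zpow_mem hbC i⟩ : Subgroup.centralizer ({z} : Set G)) = bC ^ i from
            Subtype.ext (by rw [SubgroupClass.coe_zpow]), QuotientGroup.mk_zpow, map_zpow, MulEquiv.trans_apply,
            ← hg'e, MulAut.conj_apply, conj_zpow, ← QuotientGroup.mk_zpow, ← QuotientGroup.mk_inv,
            ← QuotientGroup.mk_mul, ← QuotientGroup.mk_mul, hwf'] }

end Cfsg.Lib.MonsterFive
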