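import Cfsg.Agent.Lib.MonsterFive.Moves

/-!
The centralizer of the automorphism of order five acts on the ten subspaces as the wreath product, with the group
of order five and the centre as kernel.
-/

set_option autoImplicit false
set_option maxRecDepth 100000

namespace Cfsg.Lib.MonsterFive

open Cfsg Cfsg.Lib.Concrete Cfsg.Lib.MonsterLocal

/-- The centralizer. -/
noncomputable abbrev cenF : Subgroup Co0 := Subgroup.centralizer ({f0} : Set Co0)

theorem mem_cenF {g : Co0} : g ∈ cenF ↔ Commute g f0 := Subgroup.mem_centralizer_singleton_iff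

theorem orb_check_top : (List.range sixtyFour.length).all (fun j =>
    wordLin 24 (orbWords.getD j 0) 1 == sixtyFour.getD j 0) = true := by
  decide +kernel

theorem top_places : 1 ∈ tenL.getD (plIdx (.inl 0)) [] ∧ 1 ∈ tenL.getD (plIdx (.inr 0)) [] ∧
    (tenL.getD (plIdx (.inl 0)) []).all (fun c => !(tenL.getD (plIdx (.inr 0)) []).contains c ||
      c == 1 || topPair.contains c) = true := by
  decide +kernel

theorem left_check : ∀ k : Fin 60, ∀ i : Pl,
    wordPerm 24 (leftWords.getD k.val 0) i = Equiv.Perm.sumCongr (evP k) 1 i := by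
  decide +kernel

theorem swap_check : ∀ i : Pl, wordPerm 24 swapWord i = Equiv.sumComm (Fin 5) (Fin 5) i := by
  decide +kernel

theorem pair_check : topPair.all (fun c => (List.range sixtyFour.length).any fun j =>
    sixtyFour.getD j 0 == c && centPerms.all fun pq => fixCodes.all fun e =>
      [Sum.inl (0 : Fin 5), .inl 1, .inl 2, .inl 3, .inl 4, .inr 0, .inr 1, .inr 2, .inr 3, .inr 4].any fun i =>
        decide ((wordPerm 24 (orbWords.getD j 0) * (wEl e.2.2 * wEl pq.2.2.2)) i ≠ i)) = true := by
  decide +kernel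

theorem mono_check : centPerms.all (fun pq => fixCodes.all fun e =>
    ([Sum.inl (0 : Fin 5), .inl 1, .inl 2, .inl 3, .inl 4, .inr 0, .inr 1, .inr 2, .inr 3, .inr 4].any fun i =>
        decide ((wEl e.2.2 * wEl pq.2.2.2) i ≠ i)) ||
      ((List.range 5).any fun k => (bits24.all fun i => pget pq.1 i == pget (sPow k) i) &&
        (e.1 == 0 || e.1 == 16777215))) = true := by
  decide +kernel

/-- The centralizer sends the top class to a class reached by a word. -/
theorem top_reach {g : Co0} (hg : Commute g f0) : ∃ j < sixtyFour.length,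
    qact g (cls top) = phi (bits 8 (sixtyFour.getD j 0)) ∧
      (wordE 24 (orbWords.getD j 0))⁻¹ * g ∈ crossStab := by
  have hq : qact g (cls top) ∈ fixSet f0 := by
    show qact f0 (qact g (cls top)) = qact g (cls top)
    rw [← qact_mul, ← hg.eq, qact_mul, show qact f0 (cls top) = cls top from phi_top ▸ phi_fixed _]
  have h64 : qact g (cls top) ∈ sixtySet := ⟨g • top,
    (co0_sqNorm g top).trans (stdCross_subset (e8_mem_stdCross none)).2, rfl⟩
  obtain ⟨c, hc, he⟩ := sixty_mem_fix hq h64
  obtain ⟨j, hj, rfl⟩ := List.mem_iff_getElem.1 hc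
  rw [← List.getD_eq_getElem _ 0 hj] at he
  refine ⟨j, hj, he, mem_crossStab_iff_cls.2 ?_⟩
  have t := List.all_eq_true.1 orb_check_top j (List.mem_range.2 hj)
  rw [beq_iff_eq] at t
  have hw : qact (wordE 24 (orbWords.getD j 0)) (cls top) = qact g (cls top) := by
    rw [← phi_top, wordE_lin, t, phi_top, he]
  rw [qact_mul, ← hw, qact_inv_self]

/-- The centralizer permutes the subspaces within the wreath product. -/
theorem exists_moves {g : Co0} (hg : Commute g f0) :
    ∃ π : alternatingFiveWreathTwo, Moves g π.1 := by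
  obtain ⟨j, -, -, hc⟩ := top_reach hg
  obtain ⟨pq, -, e, -, hm, -⟩ := cross_moves hc ((wordE_comm 24 _).inv_left.mul_left hg)
  refine ⟨⟨_, mul_mem (wordPerm_mem 24 (orbWords.getD j 0)) (mul_mem (wEl_mem e.2.2) (wEl_mem pq.2.2.2))⟩, ?_⟩
  have := (wordE_moves 24 (orbWords.getD j 0)).mul hm
  rwa [mul_inv_cancel_left] at this

/-- The permutation of the places. -/
noncomputable def rhoF (g : cenF) : alternatingFiveWreathTwo :=
  Classical.choose (exists_moves (mem_cenF.1 g.2))

theorem rhoF_spec (g : cenF) : Moves g.1 (rhoF g).1 := Classical.choose_spec (exists_moves (mem_cenF.1 g.2))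

/-- The representation on the places. -/
noncomputable def rho : cenF →* alternatingFiveWreathTwo :=
  MonoidHom.mk' rhoF fun g h => Subtype.ext ((rhoF_spec (g * h)).unique ((rhoF_spec g).mul (rhoF_spec h)))

theorem rho_spec (g : cenF) : Moves g.1 (rho g).1 := rhoF_spec g

theorem rho_word (w : ℕ) : (rho ⟨wordE 24 w, mem_cenF.2 (wordE_comm 24 w)⟩).1 = wordPerm 24 w :=
  (rho_spec _).unique (wordE_moves 24 w)

theorem rho_surjective : Function.Surjective rho := by
  have hs : (⟨_, swap_mem⟩ : alternatingFiveWreathTwo) ∈ rho.range :=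
    ⟨_, Subtype.ext ((rho_word swapWord).trans (Equiv.ext swap_check))⟩
  have hl : ∀ σ : alternatingGroup (Fin 5), baseHom (σ, 1) ∈ rho.range := fun σ => by
    obtain ⟨k, hk⟩ := evP_surjective σ
    refine ⟨_, Subtype.ext ((rho_word (leftWords.getD k.val 0)).trans (Equiv.ext fun i => ?_))⟩
    rw [left_check k i, hk]
    rfl
  have hr : ∀ σ : alternatingGroup (Fin 5), baseHom (1, σ) ∈ rho.range := fun σ => by
    have h := mul_mem (mul_mem hs (hl σ)) (inv_mem hs)
    rwa [show (⟨_, swap_mem⟩ : alternatingFiveWreathTwo) * baseHom (σ, 1) * (⟨_, swap_mem⟩)⁻¹ = baseHom (1, σ) from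
      mul_inv_eq_iff_eq_mul.2 (Subtype.ext (swap_conj σ.1 1))] at h
  have hb : ∀ p, baseHom p ∈ rho.range := fun p => by
    have h := mul_mem (hl p.1) (hr p.2)
    rwa [← map_mul, Prod.mk_mul_mk, mul_one, one_mul] at h
  refine fun w => MonoidHom.mem_range.1 ?_
  obtain ⟨p, rfl | rfl⟩ := wreath_cases w
  · exact hb p
  · exact mul_mem (hb p) hs

theorem rho_eq_one_iff_moves {g : cenF} : rho g = 1 ↔ Moves g.1 1 :=
  ⟨fun h => by have := rho_spec g; rwa [h, OneMemClass.coe_one] at this,
    fun h => Subtype.ext ((rho_spec g).unique h)⟩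

/-- An element fixing all places is a power of the given one, up to the centre. -/
theorem ker_rho {g : cenF} (hg : rho g = 1) : g.1 ∈ Subgroup.center Co0 ⊔ Subgroup.zpowers f0 := by
  have hM : Moves g.1 1 := rho_eq_one_iff_moves.1 hg
  have hcomm : Commute g.1 f0 := mem_cenF.1 g.2
  obtain ⟨j, hj, he, hc⟩ := top_reach hcomm
  set c := sixtyFour.getD j 0 with hcdef
  have hlt : c < 256 := by
    have := List.all_eq_true.1 sixtyFour_check.2 c (by rw [hcdef, List.getD_eq_getElem _ 0 hj]; exact List.getElem_mem _)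
    simp only [Bool.and_eq_true, decide_eq_true_eq] at this
    exact this.1
  have hin : ∀ i, 1 ∈ tenL.getD (plIdx i) [] → c ∈ tenL.getD (plIdx i) [] := fun i hi => by
    refine (mem_Sub hlt).1 ?_
    rw [← he, ← phi_top, ← show qact g.1 '' Sub i = Sub i from hM i]
    exact ⟨_, ⟨1, hi, rfl⟩, rfl⟩
  have t := List.all_eq_true.1 top_places.2.2 c (hin _ top_places.1)
  rw [show (tenL.getD (plIdx (.inr 0)) []).contains c = true by simpa using hin _ top_places.2.1] at t
  simp only [Bool.not_true, Bool.false_or, Bool.or_eq_true, beq_iff_eq, List.contains_iff_mem] at t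
  rcases t with h1 | hp
  · have hcs : g.1 ∈ crossStab := mem_crossStab_iff_cls.2 (by rw [he, h1, phi_top])
    obtain ⟨pq, hpq, e, hee, hm, hk⟩ := cross_moves hcs hcomm
    rcases Bool.or_eq_true_iff.1 (List.all_eq_true.1 (List.all_eq_true.1 mono_check pq hpq) e hee) with h | h
    · exfalso
      obtain ⟨i, -, hi⟩ := List.any_eq_true.1 h
      rw [hm.unique hM] at hi
      simp at hi
    · obtain ⟨k, hk5, hk'⟩ := List.any_eq_true.1 h
      simp only [Bool.and_eq_true, Bool.or_eq_true, beq_iff_eq, List.all_eq_true] at hk'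
      exact hk k (List.mem_range.1 hk5) hk'.1 hk'.2
  · exfalso
    obtain ⟨j', hj', ht⟩ := List.any_eq_true.1 (List.all_eq_true.1 pair_check c hp)
    simp only [Bool.and_eq_true, beq_iff_eq] at ht
    have hjj : j' = j := by
      have hj'' := List.mem_range.1 hj'
      have h1 := ht.1
      rw [hcdef, List.getD_eq_getElem _ 0 hj'', List.getD_eq_getElem _ 0 hj] at h1
      exact (sixtyFour_check.1.getElem_inj_iff).1 h1
    subst hjj
    obtain ⟨pq, hpq, e, hee, hm, -⟩ := cross_moves hc ((wordE_comm 24 _).inv_left.mul_left hcomm)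
    have hprod := (wordE_moves 24 (orbWords.getD j' 0)).mul hm
    rw [mul_inv_cancel_left] at hprod
    obtain ⟨i, -, hi⟩ := List.any_eq_true.1 (List.all_eq_true.1 (List.all_eq_true.1 ht.2 pq hpq) e hee)
    rw [hprod.unique hM] at hi
    simp at hi

theorem rho_eq_one_of_fix (g : cenF) (h : ∀ q ∈ fixSet f0, qact g.1 q = q) : rho g = 1 :=
  rho_eq_one_iff_moves.2 (Moves.of_fix h)

theorem rho_eq_one_iff (g : cenF) : rho g = 1 ↔ g.1 ∈ Subgroup.center Co0 ⊔ Subgroup.zpowers f0 := by
  refine ⟨ker_rho, fun h => rho_eq_one_of_fix g fun q hq => ?_⟩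
  let S : Subgroup Co0 :=
    { carrier := {x | qact x q = q}
      one_mem' := qact_one _
      mul_mem' := fun {x y} hx hy => by
        show qact (x * y) q = q
        rw [qact_mul, show qact y q = q from hy, show qact x q = q from hx]
      inv_mem' := fun {x} hx => by
        show qact x⁻¹ q = q
        conv_lhs => rw [← show qact x q = q from hx, qact_inv_self] }
  exact (sup_le (fun x hx => qact_center hx _) (Subgroup.zpowers_le.2 hq) :
    Subgroup.center Co0 ⊔ Subgroup.zpowers f0 ≤ S) h

end Cfsg.Lib.MonsterFive
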